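import Cfsg.Agent.H841.TT.CoreQuot
import Cfsg.Agent.H854.ClassBasic
import Cfsg.Agent.H805.FG
import Cfsg.Agent.S5361
import Cfsg.Agent.Fischer480.AllPieces
import Cfsg.Agent.Fischer480.Transport

/-!
# Classes of 3-transpositions with `O₂ = 1`, `O₃` central and connected commuting graph (helper841)
-/

set_option autoImplicit false
set_option linter.unusedSectionVars false

namespace Cfsg.Agent.H841.TT

open Subgroup Cfsg.Agent.H854 Cfsg.Agent.H854.TM Cfsg.Agent.H854.ClassBasic Cfsg.Agent.Fischer480.Defs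

variable {H : Type*} [Group H] {E : Set H}

/-- a class as in the definitions -/
theorem isClass (h : Cls E) : Cfsg.IsThreeTranspositionClass E := by
  obtain ⟨a, ha⟩ := h.nonempty
  refine ⟨⟨?_, ?_⟩, ⟨a, ha, ?_⟩, h.gen⟩
  · intro d hd
    exact orderOf_eq_prime (by rw [pow_two]; exact h.sq d hd) (h.ne d hd)
  · intro d hd e he
    rcases h.braid d hd e he with h1 | h1
    · left
      rw [pow_two]
      calc d * e * (d * e) = d * (e * d) * e := by simp only [mul_assoc]
        _ = d * (d * e) * e := by rw [h1]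
        _ = (d * d) * (e * e) := by simp only [mul_assoc]
        _ = 1 := by rw [h.sq d hd, h.sq e he, one_mul]
    · right
      have h2 : d * e * d * (e * d * e) = 1 := by
        rw [h1]
        calc e * d * e * (e * d * e) = e * d * (e * e) * (d * e) := by simp only [mul_assoc]
          _ = e * (d * d) * e := by rw [h.sq e he]; simp only [mul_assoc, one_mul]
          _ = 1 := by rw [h.sq d hd, mul_one, h.sq e he]
      calc (d * e) ^ 3 = d * e * d * (e * d * e) := by simp only [pow_succ, pow_zero, one_mul, mul_assoc]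
        _ = 1 := h2
  · ext x
    constructor
    · intro hx
      exact isConj_iff.2 (h.trans a ha x hx)
    · intro hx
      obtain ⟨g, hg⟩ := isConj_iff.1 (show IsConj a x from hx)
      rw [← hg]
      exact h.conj g a ha

variable [Finite H]

/-- a central element of square one is trivial -/
theorem central_sq (h2 : Cfsg.pCore 2 H = ⊥) {z : H} (hz : z ∈ center H) (hs : z * z = 1) : z = 1 := by
  have hn : (zpowers z).Normal := by
    refine ⟨fun n hn g => ?_⟩
    obtain ⟨k, rfl⟩ := hn
    have h1 : g * z ^ k * g⁻¹ = z ^ k := by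
      have h3 := Subgroup.mem_center_iff.1 (zpow_mem hz k) g
      rw [h3, mul_inv_cancel_right]
    rw [show g * (fun x : ℤ => z ^ x) k * g⁻¹ = z ^ k from h1]
    exact zpow_mem (mem_zpowers z) k
  have hp : IsPGroup 2 (zpowers z) := by
    rintro ⟨_, k, rfl⟩
    refine ⟨1, Subtype.ext ?_⟩
    show (z ^ k) ^ 2 ^ 1 = 1
    rw [pow_one, ← zpow_natCast, ← zpow_mul, mul_comm, zpow_mul]
    have : z ^ ((2 : ℕ) : ℤ) = 1 := by rw [zpow_natCast, pow_two, hs]
    rw [this, one_zpow]
  have h3 := Cfsg.Agent.Lib.Cores.le_pCore hn hp (mem_zpowers z)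
  rw [h2] at h3
  exact Subgroup.mem_bot.1 h3

section

variable (h : Cls E) (h2 : Cfsg.pCore 2 H = ⊥)

include h h2

/-- `E` has no central members -/
theorem not_central {d : H} (hd : d ∈ E) : d ∉ center H := fun hz => h.ne d hd (central_sq h2 hz (h.sq d hd))

/-- commuting modulo the centre -/
theorem comm_of_quot {d e : H} (hd : d ∈ E) (he : e ∈ E)
    (hc : Commute (QuotientGroup.mk' (center H) d) (QuotientGroup.mk' (center H) e)) : Commute d e := by
  by_contra hn
  have hn' : d * e ≠ e * d := hn
  have h1 : (d * e) * (d * e) ∈ center H := by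
    rw [← QuotientGroup.eq_one_iff, ← QuotientGroup.mk'_apply, map_mul, map_mul]
    have hdd : QuotientGroup.mk' (center H) d * QuotientGroup.mk' (center H) d = 1 := by
      rw [← map_mul, h.sq d hd, map_one]
    have hee : QuotientGroup.mk' (center H) e * QuotientGroup.mk' (center H) e = 1 := by
      rw [← map_mul, h.sq e he, map_one]
    generalize QuotientGroup.mk' (center H) d = x at *
    generalize QuotientGroup.mk' (center H) e = y at *
    calc x * y * (x * y) = x * (y * x) * y := by simp only [mul_assoc]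
      _ = x * (x * y) * y := by rw [hc.eq]
      _ = (x * x) * (y * y) := by simp only [mul_assoc]
      _ = 1 := by rw [hdd, hee, one_mul]
  have h3 := h.cube hd he hn'
  have h4 : d * e = ((d * e) * (d * e)) * ((d * e) * (d * e)) := by
    calc d * e = ((d * e) * (d * e) * (d * e)) * (d * e) := by rw [h3, one_mul]
      _ = _ := by simp only [mul_assoc]
  have h5 : d * e ∈ center H := by
    rw [h4]
    exact mul_mem h1 h1
  have h6 := Subgroup.mem_center_iff.1 h5 d
  -- `d (d e) = (d e) d`
  have h7 : d * e = e * d := by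
    have : d * (d * e) = d * (e * d) := by rw [h6]; simp only [mul_assoc]
    exact mul_left_cancel this
  exact hn' h7

theorem inj_quot {d e : H} (hd : d ∈ E) (he : e ∈ E)
    (hc : QuotientGroup.mk' (center H) d = QuotientGroup.mk' (center H) e) : d = e := by
  have hcom : Commute d e := comm_of_quot h h2 hd he (by rw [hc])
  have h1 : d * e ∈ center H := by
    rw [← QuotientGroup.eq_one_iff, ← QuotientGroup.mk'_apply, map_mul, hc, ← map_mul, h.sq e he, map_one]
  have h3 : (d * e) * (d * e) = 1 := by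
    calc d * e * (d * e) = d * (e * d) * e := by simp only [mul_assoc]
      _ = d * (d * e) * e := by rw [hcom.eq]
      _ = (d * d) * (e * e) := by simp only [mul_assoc]
      _ = 1 := by rw [h.sq d hd, h.sq e he, one_mul]
  have h4 := central_sq h2 h1 h3
  rw [mul_eq_one_iff_eq_inv] at h4
  rw [h4, TM.inv_of_sq (h.sq e he)]

/-- the image of the class -/
theorem cls_center : Cls (QuotientGroup.mk' (center H) '' E) where
  sq := by
    rintro _ ⟨d, hd, rfl⟩
    rw [← map_mul, h.sq d hd, map_one]
  ne := by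
    rintro _ ⟨d, hd, rfl⟩ e
    exact not_central h h2 hd ((QuotientGroup.eq_one_iff d).1 e)
  conj := by
    intro g
    obtain ⟨g, rfl⟩ := QuotientGroup.mk'_surjective (center H) g
    rintro _ ⟨d, hd, rfl⟩
    exact ⟨g * d * g⁻¹, h.conj g d hd, by simp only [map_mul, map_inv]⟩
  braid := by
    rintro _ ⟨d, hd, rfl⟩ _ ⟨e, he, rfl⟩
    simp only [← map_mul]
    exact (h.braid d hd e he).imp (congrArg _) (congrArg _)
  trans := by
    rintro _ ⟨d, hd, rfl⟩ _ ⟨e, he, rfl⟩
    obtain ⟨g, hg⟩ := h.trans d hd e he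
    exact ⟨QuotientGroup.mk' (center H) g, by rw [← map_mul, ← map_inv, ← map_mul, hg]⟩
  gen := by
    rw [← MonoidHom.map_closure, h.gen, ← MonoidHom.range_eq_map,
      MonoidHom.range_eq_top.2 (QuotientGroup.mk'_surjective _)]
  nonempty := h.nonempty.image _

/-- the centre of the quotient -/
theorem center_quot : center (H ⧸ center H) = ⊥ := by
  rw [eq_bot_iff]
  intro y hy
  obtain ⟨z, rfl⟩ := QuotientGroup.mk'_surjective (center H) y
  rw [Subgroup.mem_bot, QuotientGroup.mk'_apply, QuotientGroup.eq_one_iff]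
  have key : ∀ e ∈ E, e * z = z * e := by
    intro e he
    have h1 := Subgroup.mem_center_iff.1 hy (QuotientGroup.mk' (center H) e)
    have h3 : e * (z * e * z⁻¹)⁻¹ ∈ center H := by
      rw [← QuotientGroup.eq_one_iff, ← QuotientGroup.mk'_apply]
      simp only [map_mul, map_inv]
      rw [← h1]
      group
    have h4 : QuotientGroup.mk' (center H) e = QuotientGroup.mk' (center H) (z * e * z⁻¹) := by
      rw [← mul_inv_eq_one, ← map_inv, ← map_mul, QuotientGroup.mk'_apply, QuotientGroup.eq_one_iff]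
      exact h3
    have h5 := inj_quot h h2 he (h.conj z e he) h4
    have h6 : e * z = z * e * z⁻¹ * z := by rw [← h5]
    rw [h6, inv_mul_cancel_right]
  rw [Subgroup.mem_center_iff]
  intro g
  have hg : g ∈ closure E := by rw [h.gen]; exact mem_top g
  induction hg using Subgroup.closure_induction with
  | mem y hy => exact key y hy
  | one => rw [one_mul, mul_one]
  | mul a b _ _ iha ihb => rw [mul_assoc, ihb, ← mul_assoc, iha, mul_assoc]
  | inv a _ iha =>
    have h7 : Commute a z := iha
    exact h7.inv_left.eq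

omit [Finite H] h h2 in
theorem adj_iff {D : Set H} (a b : D) : (Cfsg.commutingGraph D).Adj a b ↔ a ≠ b ∧ Commute (a : H) (b : H) := by
  unfold Cfsg.commutingGraph
  rw [SimpleGraph.fromRel_adj]
  constructor
  · rintro ⟨h1, h2 | h2⟩
    · exact ⟨h1, h2⟩
    · exact ⟨h1, h2.symm⟩
  · rintro ⟨h1, h2⟩
    exact ⟨h1, Or.inl h2⟩

theorem commute_iff {d e : H} (hd : d ∈ E) (he : e ∈ E) :
    Commute d e ↔ Commute (QuotientGroup.mk' (center H) d) (QuotientGroup.mk' (center H) e) :=
  ⟨fun hc => hc.map _, comm_of_quot h h2 hd he⟩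

theorem connected_quot (hcon : (Cfsg.commutingGraph E).Connected) :
    (Cfsg.commutingGraph (QuotientGroup.mk' (center H) '' E)).Connected := by
  let φ : E → ↥(QuotientGroup.mk' (center H) '' E) := fun d => ⟨QuotientGroup.mk' (center H) d, d, d.2, rfl⟩
  have hb : Function.Bijective φ := by
    constructor
    · intro a b hab
      exact Subtype.ext (inj_quot h h2 a.2 b.2 (congrArg Subtype.val hab))
    · rintro ⟨_, d, hd, rfl⟩
      exact ⟨⟨d, hd⟩, rfl⟩
  let I : Cfsg.commutingGraph E ≃g Cfsg.commutingGraph (QuotientGroup.mk' (center H) '' E) :=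
    { toEquiv := Equiv.ofBijective φ hb
      map_rel_iff' := by
        intro a b
        rw [adj_iff, adj_iff, commute_iff h h2 a.2 b.2]
        exact and_congr (hb.1.ne_iff) Iff.rfl }
  exact I.connected_iff.1 hcon

/-- **Fischer's theorem for connected classes.** -/
theorem inList_of_conn (h3 : Cfsg.pCore 3 H ≤ center H)
    (hcon : (Cfsg.commutingGraph E).Connected) (hw : ∃ a ∈ E, ∃ b ∈ E, a ≠ b ∧ Commute a b) : InList E := by
  have f2 : Fact (Nat.Prime 2) := ⟨Nat.prime_two⟩
  have f3 : Fact (Nat.Prime 3) := ⟨Nat.prime_three⟩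
  have hq := cls_center h h2
  have hq' := isClass hq
  have hZ := center_quot h h2
  have hw' : ∃ a ∈ QuotientGroup.mk' (center H) '' E, ∃ b ∈ QuotientGroup.mk' (center H) '' E, a ≠ b ∧ Commute a b := by
    obtain ⟨a, ha, b, hb, hab, hc⟩ := hw
    exact ⟨_, ⟨a, ha, rfl⟩, _, ⟨b, hb, rfl⟩, fun e => hab (inj_quot h h2 ha hb e), hc.map _⟩
  have hc2 : Cfsg.pCore 2 (H ⧸ center H) = ⊥ := pCore_quot (by rw [h2]; exact bot_le)
  have hc3 : Cfsg.pCore 3 (H ⧸ center H) = ⊥ := pCore_quot h3
  obtain ⟨h5, h6⟩ := Cfsg.Agent.S5361.result hq' hZ hw'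
  have hsimp : IsSimpleGroup (commutator (H ⧸ center H)) := h5.2 (h6.2 ⟨hc2, hc3, connected_quot h h2 hcon⟩)
  rcases Cfsg.Agent.H805.FG.fgroup_or_three hq' hZ hsimp with F | ⟨e, he⟩
  · have hl := Cfsg.Agent.Fischer480.AllPieces.inList F
    refine Cfsg.Agent.Fischer480.Transport.inList ⟨QuotientGroup.mk' (center H), ⟨?_, ?_, ?_⟩, ?_⟩ hl
    · intro d hd
      exact ⟨d, hd, rfl⟩
    · intro a ha b hb hab
      exact inj_quot h h2 ha hb hab
    · rintro _ ⟨d, hd, rfl⟩
      exact ⟨d, hd, rfl⟩
    · intro a ha b hb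
      exact commute_iff h h2 ha hb
  · exfalso
    obtain ⟨a, ha, b, hb, hab, hc⟩ := hw'
    have ha' : (e a).IsSwap := by
      have : e a ∈ e '' (QuotientGroup.mk' (center H) '' E) := ⟨a, ha, rfl⟩
      rw [he] at this
      exact this
    have hb' : (e b).IsSwap := by
      have : e b ∈ e '' (QuotientGroup.mk' (center H) '' E) := ⟨b, hb, rfl⟩
      rw [he] at this
      exact this
    have hne : e a ≠ e b := fun h => hab (e.injective h)
    have hcc : e a * e b = e b * e a := (hc.map e).eq
    have key : ∀ σ τ : Equiv.Perm (Fin 3), σ.IsSwap → τ.IsSwap → σ ≠ τ → σ * τ ≠ τ * σ := by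
      rintro _ _ ⟨x, y, hxy, rfl⟩ ⟨z, w, hzw, rfl⟩
      revert x y z w
      decide
    exact key _ _ ha' hb' hne hcc

end

end Cfsg.Agent.H841.TT
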