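import Mathlib
import Cfsg.Agent.Lib.Cores

/-!
# The core of the quotient by the centre (helper841)
-/

set_option autoImplicit false

namespace Cfsg.Agent.H841.TT

open Subgroup

variable {H : Type*} [Group H] [Finite H]

/-- if `O_p(H)` is central then `O_p(H / Z(H)) = 1` -/
theorem pCore_quot {p : ℕ} [hp : Fact p.Prime] (h : Cfsg.pCore p H ≤ center H) : Cfsg.pCore p (H ⧸ center H) = ⊥ := by
  set Nq : Subgroup (H ⧸ center H) := Cfsg.pCore p (H ⧸ center H) with hNq
  have hNn : Nq.Normal := Cfsg.Agent.Lib.Cores.pCore_normal (G := H ⧸ center H) p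
  have hNp : IsPGroup p Nq := Cfsg.Agent.Lib.Cores.pCore_isPGroup (G := H ⧸ center H) p
  set N : Subgroup H := Nq.comap (QuotientGroup.mk' (center H)) with hN
  have hNN : N.Normal := hNn.comap _
  let f : N →* Nq := (QuotientGroup.mk' (center H)).subgroupComap Nq
  have hf : ∀ x : N, ((f x : Nq) : H ⧸ center H) = QuotientGroup.mk' (center H) x := fun _ => rfl
  have hker : f.ker ≤ center N := by
    intro x hx
    rw [MonoidHom.mem_ker] at hx
    have h1 : QuotientGroup.mk' (center H) (x : H) = 1 := by rw [← hf, hx]; rfl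
    have h2 : (x : H) ∈ center H := (QuotientGroup.eq_one_iff _).1 h1
    rw [Subgroup.mem_center_iff]
    intro y
    exact Subtype.ext (Subgroup.mem_center_iff.1 h2 y)
  have hnilq : Group.IsNilpotent Nq := hNp.isNilpotent
  have hnil : Group.IsNilpotent N := Subgroup.isNilpotent_of_ker_le_center f hker
  obtain ⟨P⟩ : Nonempty (Sylow p N) := inferInstance
  have hPn : (P : Subgroup N).Normal :=
    Group.isNilpotent_of_finite_tfae.out 0 3 rfl rfl |>.mp hnil p hp P
  have hPc : (P : Subgroup N).Characteristic := P.characteristic_of_normal hPn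
  have hPH : ((P : Subgroup N).map N.subtype).Normal := ConjAct.normal_of_characteristic_of_normal
  have hPle : (P : Subgroup N).map N.subtype ≤ center H :=
    (Cfsg.Agent.Lib.Cores.le_pCore hPH (P.isPGroup'.map N.subtype)).trans h
  rw [eq_bot_iff]
  intro y hy
  obtain ⟨x, rfl⟩ := QuotientGroup.mk'_surjective (center H) y
  rw [Subgroup.mem_bot, QuotientGroup.mk'_apply, QuotientGroup.eq_one_iff]
  have hxN : x ∈ N := hy
  -- the powers
  have h1 : x ^ (P : Subgroup N).index ∈ center H := by
    have h2 : (⟨x, hxN⟩ : N) ^ (P : Subgroup N).index ∈ (P : Subgroup N) := Subgroup.pow_index_mem _ _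
    exact hPle ⟨_, h2, rfl⟩
  obtain ⟨k, hk⟩ := hNp ⟨QuotientGroup.mk' (center H) x, hy⟩
  have h2 : x ^ p ^ k ∈ center H := by
    have h3 : (QuotientGroup.mk' (center H) x) ^ p ^ k = 1 := congrArg Subtype.val hk
    rw [← map_pow, QuotientGroup.mk'_apply, QuotientGroup.eq_one_iff] at h3
    exact h3
  have hcop : Nat.Coprime (P : Subgroup N).index (p ^ k) := by
    apply Nat.Coprime.pow_right
    rw [Nat.coprime_comm, Nat.Prime.coprime_iff_not_dvd hp.out]
    exact P.not_dvd_index
  have h3 := Nat.isCoprime_iff_coprime.2 hcop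
  obtain ⟨a, b, hab⟩ := h3
  have h4 : x = (x ^ (P : Subgroup N).index) ^ a * (x ^ p ^ k) ^ b := by
    rw [← zpow_natCast, ← zpow_natCast, ← zpow_mul, ← zpow_mul, ← zpow_add]
    have : ((P : Subgroup N).index : ℤ) * a + ((p ^ k : ℕ) : ℤ) * b = 1 := by
      rw [mul_comm, mul_comm ((p ^ k : ℕ) : ℤ)]
      exact hab
    rw [this, zpow_one]
  rw [h4]
  exact mul_mem (zpow_mem h1 a) (zpow_mem h2 b)

end Cfsg.Agent.H841.TT
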